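import Mathlib
import Cfsg.Agent.Lib.Helper82.StUniq.Defs
import Cfsg.Agent.Lib.Helper23.SLDZMack
import Cfsg.Agent.Lib.Helper78.CharMore
import Cfsg.Agent.Lib.Helper75.Clifford
import Cfsg.Agent.Lib.Helper3.Induction
import Cfsg.Agent.Lib.Helper23.StUniq.Rank1

/-!
# S2318-[A-STAGE2] (helper6, for helper82's project StUniq)

`indFun_tilde_twist`: in a rank-one parabolic `P = B ∪ B n B` with `n` normalizing `T`,
`Ind_B^G (θ^n)~ = Ind_B^G θ~`.  Reduction to `[A-RANK1]` inside the group `↥P`, then induction in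
stages (`Helper3.indFun_trans`).
-/

set_option autoImplicit false

namespace Cfsg.Agent.Lib.Helper6.StUniq

open Cfsg
open scoped ComplexConjugate
open Cfsg.Agent.Lib.Helper79.BrauerN (linFun)
open Cfsg.Agent.Lib.Helper82.SLDZ (Compat)
open Cfsg.Agent.Lib.Helper82.StUniq
open Cfsg.Agent.Lib.Helper23.StUniq (indFun_eq_of_compat)

universe u
variable {G : Type u} [Group G]

/-- `θ̃` and `(θ^n)~` are compatible at `n` (as linear characters of `B` inside `G`). -/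
theorem compat_tilde_twist (S : BorelData G) (n : G)
    (hnT : ∀ t ∈ S.T, n * t * n⁻¹ ∈ S.T) (hnT' : ∀ t ∈ S.T, n⁻¹ * t * n ∈ S.T)
    (hpB : ∀ u ∈ S.U, n⁻¹ * u * n ∈ S.B → n⁻¹ * u * n ∈ S.U)
    (θ : ↥S.T →* ℂˣ) (h : G) (hh : h ∈ S.B) (hk : n⁻¹ * h * n ∈ S.B) :
    S.tilde θ ⟨h, hh⟩ = S.tilde (S.twist n hnT θ) ⟨n⁻¹ * h * n, hk⟩ := by
  obtain ⟨u, hu, t, ht, rfl⟩ := S.hmul h hh
  have ht' : n⁻¹ * t * n ∈ S.T := hnT' t ht
  have e1 : n⁻¹ * u * n = (n⁻¹ * (u * t) * n) * (n⁻¹ * t * n)⁻¹ := by group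
  have hu' : n⁻¹ * u * n ∈ S.U := by
    apply hpB u hu
    rw [e1]
    exact S.B.mul_mem hk (S.B.inv_mem (S.hTB ht'))
  have e2 : n⁻¹ * (u * t) * n = (n⁻¹ * u * n) * (n⁻¹ * t * n) := by group
  have h1 : S.proj ⟨u * t, hh⟩ = ⟨t, ht⟩ := S.proj_mul hu ht
  have h2 : S.proj ⟨n⁻¹ * (u * t) * n, hk⟩ = ⟨n⁻¹ * t * n, ht'⟩ := by
    have := S.proj_mul hu' ht'
    rw [← this]
    congr 1
    exact Subtype.ext e2
  rw [S.tilde_apply, S.tilde_apply, h1, h2, S.twist_apply]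
  congr 1
  apply Subtype.ext
  show t = n * (n⁻¹ * t * n) * n⁻¹
  group

/-- if `θ̃` is self-compatible at `n` then `θ^n = θ` -/
theorem twist_eq_of_compat_tilde (S : BorelData G) (n : G)
    (hnT : ∀ t ∈ S.T, n * t * n⁻¹ ∈ S.T)
    (θ : ↥S.T →* ℂˣ)
    (hc : ∀ (h : G) (hh : h ∈ S.B) (hk : n⁻¹ * h * n ∈ S.B),
      S.tilde θ ⟨h, hh⟩ = S.tilde θ ⟨n⁻¹ * h * n, hk⟩) :
    S.twist n hnT θ = θ := by
  ext t
  rw [S.twist_apply]
  have ht1 : n * (t : G) * n⁻¹ ∈ S.T := hnT t t.2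
  have e : n⁻¹ * (n * (t : G) * n⁻¹) * n = (t : G) := by group
  have hk : n⁻¹ * (n * (t : G) * n⁻¹) * n ∈ S.B := by rw [e]; exact S.hTB t.2
  have := hc (n * (t : G) * n⁻¹) (S.hTB ht1) hk
  rw [S.tilde_of_mem_T θ ht1] at this
  rw [this]
  have h3 : (⟨n⁻¹ * (n * (t : G) * n⁻¹) * n, hk⟩ : ↥S.B) = ⟨(t : G), S.hTB t.2⟩ := Subtype.ext e
  rw [h3, S.tilde_of_mem_T θ t.2]

/-- `[A-STAGE2]` -/
theorem indFun_tilde_twist [Fintype G] (S : BorelData G) (P : Subgroup G) (n : G) (hBP : S.B ≤ P)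
    (hnP : n ∈ P)
    (hcov : ∀ g ∈ P, g ∈ S.B ∨ ∃ b ∈ S.B, ∃ b' ∈ S.B, g = b * n * b')
    (hnT : ∀ t ∈ S.T, n * t * n⁻¹ ∈ S.T) (hnT' : ∀ t ∈ S.T, n⁻¹ * t * n ∈ S.T)
    (hpB : ∀ u ∈ S.U, n⁻¹ * u * n ∈ S.B → n⁻¹ * u * n ∈ S.U)
    (θ : ↥S.T →* ℂˣ) :
    indFun S.B (linFun (S.tilde (S.twist n hnT θ))) = indFun S.B (linFun (S.tilde θ)) := by
  classical
  by_cases hθ : S.twist n hnT θ = θ
  · rw [hθ]
  let e : ↥(S.B.subgroupOf P) →* ↥S.B := (Subgroup.subgroupOfEquivOfLe hBP).toMonoidHom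
  have he : ∀ x : ↥(S.B.subgroupOf P), e x = ⟨((x : ↥P) : G), Subgroup.mem_subgroupOf.mp x.2⟩ :=
    fun x => rfl
  let α : ↥(S.B.subgroupOf P) →* ℂˣ := (S.tilde θ).comp e
  let β : ↥(S.B.subgroupOf P) →* ℂˣ := (S.tilde (S.twist n hnT θ)).comp e
  have hαβ : α ≠ β := by
    intro hαβ
    apply hθ
    ext t
    have h1 : (⟨⟨(t : G), hBP (S.hTB t.2)⟩, Subgroup.mem_subgroupOf.mpr (S.hTB t.2)⟩ :
        ↥(S.B.subgroupOf P)) = ⟨⟨(t : G), hBP (S.hTB t.2)⟩, Subgroup.mem_subgroupOf.mpr (S.hTB t.2)⟩ :=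
      rfl
    have h2 := DFunLike.congr_fun hαβ
      (⟨⟨(t : G), hBP (S.hTB t.2)⟩, Subgroup.mem_subgroupOf.mpr (S.hTB t.2)⟩ : ↥(S.B.subgroupOf P))
    simp only [α, β, MonoidHom.comp_apply, he] at h2
    rw [S.tilde_of_mem_T θ t.2, S.tilde_of_mem_T (S.twist n hnT θ) t.2] at h2
    rw [← h2]
  have hcov' : ∀ g : ↥P, g ∈ S.B.subgroupOf P ∨
      ∃ b ∈ S.B.subgroupOf P, ∃ b' ∈ S.B.subgroupOf P, g = b * (⟨n, hnP⟩ : ↥P) * b' := by
    intro g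
    rcases hcov g g.2 with h | ⟨b, hb, b', hb', h⟩
    · exact Or.inl (Subgroup.mem_subgroupOf.mpr h)
    · refine Or.inr ⟨⟨b, hBP hb⟩, Subgroup.mem_subgroupOf.mpr hb, ⟨b', hBP hb'⟩,
        Subgroup.mem_subgroupOf.mpr hb', ?_⟩
      exact Subtype.ext h
  have hc : Compat α β (⟨n, hnP⟩ : ↥P) := by
    intro h hh hk
    simp only [α, β, MonoidHom.comp_apply, he]
    exact compat_tilde_twist S n hnT hnT' hpB θ (h : G) (Subgroup.mem_subgroupOf.mp hh)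
      (Subgroup.mem_subgroupOf.mp hk)
  have hα : α ≠ β → ¬ Compat α α (⟨n, hnP⟩ : ↥P) := by
    intro _ hcα
    apply hθ
    apply twist_eq_of_compat_tilde S n hnT θ
    intro h hh hk
    have := hcα ⟨h, hBP hh⟩ (Subgroup.mem_subgroupOf.mpr hh) (Subgroup.mem_subgroupOf.mpr hk)
    simp only [α, MonoidHom.comp_apply, he] at this
    exact this
  have hβ : α ≠ β → ¬ Compat β β (⟨n, hnP⟩ : ↥P) := by
    intro _ hcβ
    apply hθ
    -- `(θ^n)~` self-compatible at `n` gives `(θ^n)^n = θ^n`, i.e. `θ^n = θ` after untwisting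
    have h1 : S.twist n hnT (S.twist n hnT θ) = S.twist n hnT θ := by
      apply twist_eq_of_compat_tilde S n hnT (S.twist n hnT θ)
      intro h hh hk
      have := hcβ ⟨h, hBP hh⟩ (Subgroup.mem_subgroupOf.mpr hh) (Subgroup.mem_subgroupOf.mpr hk)
      simp only [β, MonoidHom.comp_apply, he] at this
      exact this
    refine MonoidHom.ext fun t => ?_
    have ht1 : n⁻¹ * (t : G) * n ∈ S.T := hnT' t t.2
    have h2 := DFunLike.congr_fun h1 ⟨n⁻¹ * (t : G) * n, ht1⟩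
    have h3 : ∀ (φ : ↥S.T →* ℂˣ) (x : ↥S.T),
        S.twist n hnT φ x = φ ⟨n * (x : G) * n⁻¹, hnT x x.2⟩ := fun φ x => rfl
    rw [h3 (S.twist n hnT θ), h3 θ, h3 θ ⟨n⁻¹ * (t : G) * n, ht1⟩] at h2
    rw [h3 θ t]
    have e1 : ∀ (a b : ↥S.T), (a : G) = (b : G) → θ a = θ b :=
      fun a b hab => by rw [Subtype.ext hab]
    calc θ ⟨n * (t : G) * n⁻¹, hnT t t.2⟩ = _ := e1 _ _ (by
          show n * (t : G) * n⁻¹ = n * (n * (n⁻¹ * (t : G) * n) * n⁻¹) * n⁻¹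
          group)
      _ = _ := h2
      _ = θ t := e1 _ _ (by
          show n * (n⁻¹ * (t : G) * n) * n⁻¹ = (t : G)
          group)
  have key : indFun (S.B.subgroupOf P) (linFun α) = indFun (S.B.subgroupOf P) (linFun β) :=
    indFun_eq_of_compat (S.B.subgroupOf P) (⟨n, hnP⟩ : ↥P) hcov' α β hc hα hβ
  rw [← Cfsg.Agent.Lib.Helper3.indFun_trans S.B P hBP (linFun (S.tilde θ)),
    ← Cfsg.Agent.Lib.Helper3.indFun_trans S.B P hBP (linFun (S.tilde (S.twist n hnT θ)))]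
  show indFun P (indFun (S.B.subgroupOf P) (linFun β)) =
    indFun P (indFun (S.B.subgroupOf P) (linFun α))
  rw [key]

end Cfsg.Agent.Lib.Helper6.StUniq
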