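import Mathlib
import Cfsg.Agent.Lib.Helper82.StUniq.Defs
import Cfsg.Agent.Lib.Helper23.SLDZMack
import Cfsg.Agent.Lib.Helper78.CharMore
import Cfsg.Agent.Lib.Helper78.CharValues
import Cfsg.Agent.Lib.Helper75.Clifford
import Cfsg.Agent.Lib.Helper3.Induction
import Cfsg.Agent.Lib.Helper82.SLDZ.M4
import Cfsg.Agent.Lib.Helper93.StUniq.Reg
import Cfsg.Agent.Lib.Helper93.StUniq.SumInd
import Cfsg.Agent.Lib.Helper23.StUniq.Cell

/-!
# S2318-[A-STAGE1] (helper6, for helper82's project StUniq)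

`stage_one`: an irreducible character `χ` vanishing on `U \ {1}` has degree `|U|`, and there is a
unique linear character `θ` of `T` with `⟨χ, Ind_B^G θ̃⟩ = 1` (all others give `0`).
-/

set_option autoImplicit false

namespace Cfsg.Agent.Lib.Helper6.StUniq

open Cfsg
open scoped ComplexConjugate
open Cfsg.Agent.Lib.Helper79.BrauerN (linFun)
open Cfsg.Agent.Lib.Helper82.SLDZ (Compat)
open Cfsg.Agent.Lib.Helper82.StUniq
open Cfsg.Agent.Lib.Helper78
open Cfsg.Agent.Lib.Helper93.StUniq (sum_indFun_tilde classInner_indFun_of_vanish)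
open Cfsg.Agent.Lib.Helper23.StUniq (classInner_tilde_le_one)

universe u
variable {G : Type u} [Group G]

/-- `classInner` is additive over finite sums in the second variable -/
theorem classInner_sum_right' [Fintype G] {ι : Type*} (s : Finset ι) (f : ι → G → ℂ) (φ : G → ℂ) :
    classInner φ (∑ i ∈ s, f i) = ∑ i ∈ s, classInner φ (f i) := by
  rw [← classInner_conj_symm, classInner_sum_left, map_sum]
  exact Finset.sum_congr rfl fun i _ => classInner_conj_symm _ _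

/-- `[A-STAGE1]` -/
theorem stage_one [Fintype G] (S : BorelData G) [Fintype (↥S.T →* ℂˣ)] (n₀ : G) (ψ : ↥S.U →* ℂˣ)
    (hcell : CellHyp S n₀ ψ) (χ : G → ℂ) (hχ : IsIrrCharacter G χ)
    (hv : ∀ u ∈ S.U, u ≠ 1 → χ u = 0) :
    χ 1 = (Nat.card S.U : ℂ) ∧ ∃ θ : ↥S.T →* ℂˣ,
      classInner χ (indFun S.B (linFun (S.tilde θ))) = 1 ∧
      ∀ θ' : ↥S.T →* ℂˣ, θ' ≠ θ → classInner χ (indFun S.B (linFun (S.tilde θ'))) = 0 := by
  classical
  have hΦ : ∀ θ : ↥S.T →* ℂˣ, IsCharacter G (indFun S.B (linFun (S.tilde θ))) :=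
    fun θ => Cfsg.Agent.Lib.Helper79.BrauerN.isCharacter_indFun_linFun _ _
  have hΓ : IsCharacter G (indFun S.U (linFun ψ)) :=
    Cfsg.Agent.Lib.Helper79.BrauerN.isCharacter_indFun_linFun _ _
  let χ' : IrrCharacter G := ⟨χ, hχ⟩
  choose a ha using fun θ : ↥S.T →* ℂˣ => IsCharacter.exists_nat_classInner (hΦ θ) χ'
  obtain ⟨b, hb⟩ := IsCharacter.exists_nat_classInner hΓ χ'
  have ha' : ∀ θ : ↥S.T →* ℂˣ, classInner χ (indFun S.B (linFun (S.tilde θ))) = (a θ : ℂ) := by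
    intro θ
    rw [← classInner_conj_symm]
    show conj (classInner (indFun S.B (linFun (S.tilde θ))) (χ' : G → ℂ)) = _
    rw [ha θ, Complex.conj_natCast]
  have hb' : classInner χ (indFun S.U (linFun ψ)) = (b : ℂ) := by
    rw [← classInner_conj_symm]
    show conj (classInner (indFun S.U (linFun ψ)) (χ' : G → ℂ)) = _
    rw [hb, Complex.conj_natCast]
  have hcf : IsClassFunction G χ := IsCharacter.isClassFunction (IsIrrCharacter.isCharacter hχ)
  have hreg := classInner_indFun_of_vanish S.U χ hcf hv ψ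
  have hreg1 := classInner_indFun_of_vanish S.U χ hcf hv 1
  have h1 : linFun (1 : ↥S.U →* ℂˣ) = fun _ => (1 : ℂ) := by
    funext y
    exact Cfsg.Agent.Lib.Helper79.BrauerN.linFun_one y
  have hU0 : (Nat.card S.U : ℂ) ≠ 0 := by exact_mod_cast Nat.card_pos.ne'
  -- the multiplicities add up to `b`
  have hsum : (∑ θ : ↥S.T →* ℂˣ, (a θ : ℂ)) = (b : ℂ) := by
    rw [← hb', hreg, ← hreg1, h1, ← sum_indFun_tilde S, classInner_sum_right']
    exact Finset.sum_congr rfl fun θ _ => (ha' θ).symm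
  have hsumN : ∑ θ : ↥S.T →* ℂˣ, a θ = b := by exact_mod_cast hsum
  -- `χ 1 = b * |U|`
  have hdeg : χ 1 = (b : ℂ) * (Nat.card S.U : ℂ) := by
    rw [← hb', hreg, div_mul_cancel₀ _ hU0]
  have hb0 : b ≠ 0 := by
    intro h0
    apply IsIrrCharacter.apply_one_ne_zero hχ
    rw [hdeg, h0, Nat.cast_zero, zero_mul]
  -- each product `a θ * b ≤ 1`
  have hle : ∀ θ : ↥S.T →* ℂˣ, a θ * b ≤ 1 := by
    intro θ
    obtain ⟨k, hk1, hk⟩ := classInner_tilde_le_one S n₀ ψ hcell θ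
    exact (Cfsg.Agent.Lib.Helper82.SLDZ.mul_le_classInner (hΦ θ) hΓ χ' (a θ) b k (ha θ) hb hk).trans
      hk1
  -- some `a θ₀ ≥ 1`
  have hex : ∃ θ₀ : ↥S.T →* ℂˣ, a θ₀ ≠ 0 := by
    by_contra hcon
    push Not at hcon
    apply hb0
    rw [← hsumN]
    exact Finset.sum_eq_zero fun θ _ => hcon θ
  obtain ⟨θ₀, hθ₀⟩ := hex
  have hb1 : b = 1 := by
    have h2 := hle θ₀
    have h3 : 1 ≤ a θ₀ := Nat.one_le_iff_ne_zero.mpr hθ₀
    have h4 : 1 ≤ b := Nat.one_le_iff_ne_zero.mpr hb0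
    nlinarith
  have haθ₀ : a θ₀ = 1 := by
    have h2 := hle θ₀
    rw [hb1, mul_one] at h2
    exact le_antisymm h2 (Nat.one_le_iff_ne_zero.mpr hθ₀)
  refine ⟨by rw [hdeg, hb1, Nat.cast_one, one_mul], θ₀, by rw [ha' θ₀, haθ₀, Nat.cast_one], ?_⟩
  intro θ' hne
  rw [ha' θ']
  have h5 : ∑ θ ∈ ({θ₀, θ'} : Finset (↥S.T →* ℂˣ)), a θ ≤ ∑ θ : ↥S.T →* ℂˣ, a θ :=
    Finset.sum_le_sum_of_subset (Finset.subset_univ _)
  rw [Finset.sum_pair hne.symm, hsumN, hb1, haθ₀] at h5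
  have : a θ' = 0 := by omega
  rw [this, Nat.cast_zero]

end Cfsg.Agent.Lib.Helper6.StUniq
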